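import Cfsg.Agent.Lib.H17.L34M.Glue

set_option autoImplicit false

/-!
# The presented group `P2`: exact relators and central relators on two generators (helper17)
-/

namespace Cfsg.Agent.Lib.H17.L34M

open FreeGroup

theorem map_gl2 {K L : Type*} [Group K] [Group L] (f : K →* L) (x y : K) (i : ℕ) :
    f (gl2 x y i) = gl2 (f x) (f y) i := by
  unfold gl2
  split <;> simp

theorem map_wv2 {K L : Type*} [Group K] [Group L] (f : K →* L) (x y : K) (w : List ℕ) :
    f (wv2 x y w) = wv2 (f x) (f y) w := by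
  unfold wv2
  rw [map_list_prod, List.map_map]
  congr 1
  apply List.map_congr_left
  intro i _
  exact map_gl2 f x y i

/-- the word in the free group -/
def wF2 (w : List ℕ) : FreeGroup (Fin 2) := wv2 (of 0) (of 1) w

/-- the relators: the exact words and the commutators of the central words with the generators -/
def rels2 : Set (FreeGroup (Fin 2)) :=
  {r | (∃ w ∈ Cert.exactL, r = wF2 w) ∨
    (∃ w ∈ Cert.symL ++ Cert.cenL, ∃ i : Fin 2, r = wF2 w * of i * (wF2 w)⁻¹ * (of i)⁻¹)}

/-- the presented group -/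
abbrev P2 : Type := PresentedGroup rels2

/-- the generators of `P2` -/
def qa : P2 := PresentedGroup.of 0
/-- the generators of `P2` -/
def qb : P2 := PresentedGroup.of 1

theorem mk_wF2 (w : List ℕ) : PresentedGroup.mk rels2 (wF2 w) = wv2 qa qb w := by
  unfold wF2
  rw [map_wv2]
  rfl

theorem lift_wF2 {K : Type*} [Group K] (f : Fin 2 → K) (w : List ℕ) :
    FreeGroup.lift f (wF2 w) = wv2 (f 0) (f 1) w := by
  unfold wF2
  rw [map_wv2]
  simp only [FreeGroup.lift_apply_of]

theorem P2_exact : ∀ w ∈ Cert.exactL, wv2 qa qb w = 1 := by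
  intro w hw
  rw [← mk_wF2]
  exact (PresentedGroup.one_of_mem (Or.inl ⟨w, hw, rfl⟩))

theorem P2_comm : ∀ w ∈ Cert.symL ++ Cert.cenL, ∀ i : Fin 2,
    wv2 qa qb w * (PresentedGroup.of i : P2) = PresentedGroup.of i * wv2 qa qb w := by
  intro w hw i
  rw [← mk_wF2]
  have : PresentedGroup.mk rels2 (wF2 w * of i * (wF2 w)⁻¹ * (of i)⁻¹) = 1 :=
    PresentedGroup.one_of_mem (Or.inr ⟨w, hw, i, rfl⟩)
  rw [_root_.map_mul, _root_.map_mul, _root_.map_mul, _root_.map_inv, _root_.map_inv] at this
  have h2 : PresentedGroup.mk rels2 (wF2 w) * PresentedGroup.mk rels2 (of i) =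
      PresentedGroup.mk rels2 (of i) * PresentedGroup.mk rels2 (wF2 w) := by
    rw [mul_inv_eq_one, mul_inv_eq_iff_eq_mul] at this
    exact this
  exact h2

theorem P2_gen : Subgroup.closure {qa, qb} = (⊤ : Subgroup P2) := by
  have h := PresentedGroup.closure_range_of rels2
  rw [eq_top_iff, ← h, Subgroup.closure_le]
  rintro _ ⟨i, rfl⟩
  apply Subgroup.subset_closure
  fin_cases i
  · left; rfl
  · right; rfl

/-- the central words are central in `P2` -/
theorem P2_central : ∀ w ∈ Cert.symL ++ Cert.cenL, wv2 qa qb w ∈ Subgroup.center P2 := by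
  intro w hw
  have hcen : Subgroup.centralizer {wv2 qa qb w} = ⊤ := by
    rw [eq_top_iff, ← P2_gen, Subgroup.closure_le]
    intro g hg
    have key : ∀ i : Fin 2, (PresentedGroup.of i : P2) ∈ Subgroup.centralizer {wv2 qa qb w} := by
      intro i
      rw [Subgroup.mem_centralizer_iff]
      intro h hh
      rw [Set.mem_singleton_iff] at hh
      subst hh
      exact P2_comm w hw i
    simp only [Set.mem_insert_iff, Set.mem_singleton_iff] at hg
    rcases hg with rfl | rfl
    · exact key 0
    · exact key 1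
  rw [Subgroup.mem_center_iff]
  intro g
  have hg : g ∈ Subgroup.centralizer {wv2 qa qb w} := by rw [hcen]; trivial
  rw [Subgroup.mem_centralizer_iff] at hg
  exact (hg _ rfl).symm

/-- a homomorphism from `P2` -/
def homP2 {K : Type*} [Group K] (x y : K) (hex : ∀ w ∈ Cert.exactL, wv2 x y w = 1)
    (hcen : ∀ w ∈ Cert.symL ++ Cert.cenL, ∀ i : Fin 2, wv2 x y w * ![x, y] i = ![x, y] i * wv2 x y w) :
    P2 →* K :=
  PresentedGroup.toGroup (f := ![x, y]) (by
    intro r hr
    rcases hr with ⟨w, hw, rfl⟩ | ⟨w, hw, i, rfl⟩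
    · rw [lift_wF2]
      exact hex w hw
    · rw [_root_.map_mul, _root_.map_mul, _root_.map_mul, _root_.map_inv, _root_.map_inv, lift_wF2, mul_inv_eq_one,
        mul_inv_eq_iff_eq_mul, FreeGroup.lift_apply_of]
      exact hcen w hw i)

variable {K : Type*} [Group K] (x y : K) (hex : ∀ w ∈ Cert.exactL, wv2 x y w = 1)
    (hcen : ∀ w ∈ Cert.symL ++ Cert.cenL, ∀ i : Fin 2, wv2 x y w * ![x, y] i = ![x, y] i * wv2 x y w)

theorem homP2_qa : homP2 x y hex hcen qa = x := by
  unfold homP2 qa
  rw [PresentedGroup.toGroup.of]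
  rfl

theorem homP2_qb : homP2 x y hex hcen qb = y := by
  unfold homP2 qb
  rw [PresentedGroup.toGroup.of]
  rfl

theorem homP2_wv (w : List ℕ) : homP2 x y hex hcen (wv2 qa qb w) = wv2 x y w := by
  rw [map_wv2, homP2_qa, homP2_qb]

end Cfsg.Agent.Lib.H17.L34M
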