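import Cfsg.Agent.Lib.H17.M22M.AbsTools
import Cfsg.Agent.Lib.H17.L34M.Pres2

set_option autoImplicit false
set_option maxRecDepth 100000

/-!
# The core counting argument for central extensions of `L3(4)` (helper17)
-/

namespace Cfsg.Agent.Lib.H17.L34M

open Subgroup
open scoped commutatorElement

section rels

variable {K : Type*} [Group K] (x y : K)

/-- the word conjugating `a` to its square -/
def waL : List ℕ := [3, 3, 0, 2, 0, 0, 2, 1, 1, 3, 3, 0, 0, 2]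

/-- the word inverting `b` -/
def wbL : List ℕ := [1, 1, 3, 1, 1, 1, 3, 1, 1, 3, 0, 0, 0]

theorem rel0_iff2 : wv2 x y [0, 0, 0, 0, 0, 0, 0] = 1 ↔ x ^ 7 = 1 := by
  have e : wv2 x y [0, 0, 0, 0, 0, 0, 0] = x ^ 7 := by
    simp only [wv2, gl2, List.map, List.prod_cons, List.prod_nil, pow_succ, pow_zero, one_mul, mul_one,
      mul_assoc]
  rw [e]

theorem rel1_iff2 : wv2 x y [2, 2, 2, 2, 2] = 1 ↔ y ^ 5 = 1 := by
  have e : wv2 x y [2, 2, 2, 2, 2] = y ^ 5 := by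
    simp only [wv2, gl2, List.map, List.prod_cons, List.prod_nil, pow_succ, pow_zero, one_mul, mul_one,
      mul_assoc]
  rw [e]

/-- the inverse letter -/
def flip2 (x : ℕ) : ℕ :=
  match x with
  | 0 => 1 | 1 => 0 | 2 => 3 | 3 => 2 | k => k

/-- the inverse word -/
def invW2 (w : List ℕ) : List ℕ := (w.map flip2).reverse

theorem gl2_flip2 (i : ℕ) : gl2 x y (flip2 i) = (gl2 x y i)⁻¹ := by
  rcases i with _ | _ | _ | _ | n
  · rfl
  · exact (inv_inv x).symm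
  · rfl
  · exact (inv_inv y).symm
  · have h1 : flip2 (n + 4) = n + 4 := rfl
    have h2 : gl2 x y (n + 4) = 1 := rfl
    rw [h1, h2, inv_one]

theorem wv2_append (u v : List ℕ) : wv2 x y (u ++ v) = wv2 x y u * wv2 x y v := by
  unfold wv2
  rw [List.map_append, List.prod_append]

theorem wv2_invW2 (w : List ℕ) : wv2 x y (invW2 w) = (wv2 x y w)⁻¹ := by
  induction w with
  | nil => simp [invW2, wv2]
  | cons i w ih =>
    have e : invW2 (i :: w) = invW2 w ++ [flip2 i] := by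
      unfold invW2
      rw [List.map_cons, List.reverse_cons]
    rw [e, wv2_append, ih]
    unfold wv2
    rw [List.map_cons, List.map_cons, List.map_nil, List.prod_cons, List.prod_cons, List.prod_nil, mul_one,
      gl2_flip2, mul_inv_rev]

theorem rel2_iff2 : wv2 x y [3, 3, 0, 2, 0, 0, 2, 1, 1, 3, 3, 0, 0, 2, 0, 3, 1, 1, 2, 2, 0, 0, 3, 1, 1, 3,
    1, 2, 2, 1, 1] = 1 ↔ wv2 x y waL * x * (wv2 x y waL)⁻¹ = x ^ 2 := by
  have hw : [3, 3, 0, 2, 0, 0, 2, 1, 1, 3, 3, 0, 0, 2, 0, 3, 1, 1, 2, 2, 0, 0, 3, 1, 1, 3,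
      1, 2, 2, 1, 1] = waL ++ ([0] ++ (invW2 waL ++ [1, 1])) := by decide
  have h0 : wv2 x y [0] = x := by simp [wv2, gl2]
  have h1 : wv2 x y [1, 1] = x⁻¹ * x⁻¹ := by simp [wv2, gl2]
  have e : wv2 x y [3, 3, 0, 2, 0, 0, 2, 1, 1, 3, 3, 0, 0, 2, 0, 3, 1, 1, 2, 2, 0, 0, 3, 1, 1, 3,
      1, 2, 2, 1, 1] = (wv2 x y waL * x * (wv2 x y waL)⁻¹) * (x ^ 2)⁻¹ := by
    rw [hw, wv2_append, wv2_append, wv2_append, wv2_invW2, h0, h1]; group
  rw [e, mul_inv_eq_one]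

theorem rel3_iff2 : wv2 x y [1, 1, 3, 1, 1, 1, 3, 1, 1, 3, 0, 0, 0, 2, 1, 1, 1, 2, 0, 0, 2, 0, 0, 0, 2, 0,
    0, 2] = 1 ↔ wv2 x y wbL * y * (wv2 x y wbL)⁻¹ = y⁻¹ := by
  have hw : [1, 1, 3, 1, 1, 1, 3, 1, 1, 3, 0, 0, 0, 2, 1, 1, 1, 2, 0, 0, 2, 0, 0, 0, 2, 0,
      0, 2] = wbL ++ ([2] ++ (invW2 wbL ++ [2])) := by decide
  have h0 : wv2 x y [2] = y := by simp [wv2, gl2]
  have e : wv2 x y [1, 1, 3, 1, 1, 1, 3, 1, 1, 3, 0, 0, 0, 2, 1, 1, 1, 2, 0, 0, 2, 0, 0, 0, 2, 0,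
      0, 2] = (wv2 x y wbL * y * (wv2 x y wbL)⁻¹) * y := by
    rw [hw, wv2_append, wv2_append, wv2_append, wv2_invW2, h0]; group
  rw [e, mul_eq_one_iff_eq_inv]

theorem exact_iff2 : (∀ w ∈ Cert.exactL, wv2 x y w = 1) ↔
    (x ^ 7 = 1 ∧ y ^ 5 = 1 ∧ wv2 x y waL * x * (wv2 x y waL)⁻¹ = x ^ 2 ∧
      wv2 x y wbL * y * (wv2 x y wbL)⁻¹ = y ^ 4) := by
  have h4 : y ^ 5 = 1 → y⁻¹ = y ^ 4 := by
    intro h
    rw [inv_eq_iff_mul_eq_one, ← pow_succ', h]
  rw [← rel0_iff2 x y, ← rel1_iff2 x y, ← rel2_iff2 x y]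
  simp only [Cert.exactL, List.mem_cons, List.not_mem_nil, or_false, forall_eq_or_imp, forall_eq]
  constructor
  · rintro ⟨h0, h1, h2, h3⟩
    refine ⟨h0, h1, h2, ?_⟩
    rw [← h4 ((rel1_iff2 x y).1 h1)]
    exact (rel3_iff2 x y).1 h3
  · rintro ⟨h0, h1, h2, h3⟩
    refine ⟨h0, h1, h2, ?_⟩
    rw [rel3_iff2, h4 ((rel1_iff2 x y).1 h1)]
    exact h3

/-- the exact relators make the two elements products of commutators -/
theorem mem_commutator_of_exact2 (hex : ∀ w ∈ Cert.exactL, wv2 x y w = 1) :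
    x ∈ commutator K ∧ y ∈ commutator K := by
  obtain ⟨h0, h1, h2, h3⟩ := (exact_iff2 x y).1 hex
  have hc : ∀ p q : K, ⁅p, q⁆ ∈ commutator K := fun p q =>
    Subgroup.commutator_mem_commutator (Subgroup.mem_top p) (Subgroup.mem_top q)
  refine ⟨?_, ?_⟩
  · have e : ⁅wv2 x y waL, x⁆ = x := by
      rw [commutatorElement_def, h2]; group
    rw [← e]; exact hc _ _
  · have e : ⁅wv2 x y wbL, y⁆ = y ^ 3 := by
      rw [commutatorElement_def, h3]; group
    have hy3 : y ^ 3 ∈ commutator K := by rw [← e]; exact hc _ _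
    have e2 : y = (y ^ 3) ^ 2 * (y ^ 5)⁻¹ := by group
    rw [e2, h1, inv_one, mul_one]
    exact pow_mem hy3 2

end rels

section count

variable {E G : Type*} [Group E] [Group G]

/-- the counting argument -/
theorem count_main2 (σ : E →* G) (hs : Function.Surjective σ) (hG : Nat.card G = 20160)
    (H : Subgroup E) [Finite H] (hH : Nat.card H ≤ 7) [Finite (E ⧸ H)] (Z : Subgroup E) [Finite Z]
    (hZ : Z ≤ σ.ker) (hq : Nat.card (E ⧸ H) ≤ 2880 * Nat.card Z) :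
    Finite E ∧ σ.ker = Z := by
  have hfin : Finite E := Finite.of_equiv _ (Subgroup.groupEquivQuotientProdSubgroup (s := H)).symm
  refine ⟨hfin, ?_⟩
  have h1 : Nat.card E = Nat.card (E ⧸ H) * Nat.card H :=
    Subgroup.card_eq_card_quotient_mul_card_subgroup H
  have h2 : Nat.card E = Nat.card σ.ker * Nat.card G :=
    Cfsg.Agent.Lib.H28.StemTools.card_eq_card_ker_mul σ hs
  have h3 : Nat.card σ.ker * 20160 ≤ Nat.card Z * 20160 := by
    calc Nat.card σ.ker * 20160 = Nat.card E := by rw [h2, hG]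
      _ = Nat.card (E ⧸ H) * Nat.card H := h1
      _ ≤ (2880 * Nat.card Z) * 7 := Nat.mul_le_mul hq hH
      _ = Nat.card Z * 20160 := by ring
  have h4 : Nat.card σ.ker ≤ Nat.card Z := Nat.le_of_mul_le_mul_right h3 (by norm_num)
  symm
  exact Subgroup.eq_of_le_of_card_ge hZ h4

/-- a homomorphism which is nontrivial on an element of order seven is injective on its powers -/
theorem cyc_inj (σ : E →* G) (a : E) (ha : a ^ 7 = 1) (ha1 : σ a ≠ 1) :
    ∀ g ∈ closure ({a} : Set E), σ g = 1 → g = 1 := by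
  intro g hg hg1
  rw [← zpowers_eq_closure] at hg
  obtain ⟨i, rfl⟩ := mem_zpowers_iff.1 hg
  have h7 : orderOf (σ a) = 7 := by
    have := orderOf_dvd_of_pow_eq_one (show (σ a) ^ 7 = 1 by rw [← map_pow, ha, map_one])
    rcases (Nat.dvd_prime (by norm_num : Nat.Prime 7)).1 this with h | h
    · exact absurd (orderOf_eq_one_iff.1 h) ha1
    · exact h
  rw [map_zpow] at hg1
  have hd : ((orderOf (σ a) : ℕ) : ℤ) ∣ i := orderOf_dvd_iff_zpow_eq_one.2 hg1
  rw [h7] at hd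
  obtain ⟨j, rfl⟩ := hd
  rw [zpow_mul]
  have : a ^ ((7 : ℕ) : ℤ) = 1 := by rw [zpow_natCast]; exact ha
  rw [this, one_zpow]

/-- the core theorem -/
theorem core2 (σ : E →* G) (hs : Function.Surjective σ) (hG : Nat.card G = 20160)
    (a b : E) (ha1 : σ a ≠ 1)
    (hex : ∀ w ∈ Cert.exactL, wv2 a b w = 1)
    (hcen : ∀ w ∈ Cert.symL ++ Cert.cenL, wv2 a b w ∈ σ.ker ⊓ center E)
    (hgen : closure {a, b} = ⊤) :
    Finite E ∧ ((wv2 a b xW)⁻¹) ^ 12 = 1 ∧ ((wv2 a b yW)⁻¹ * ((wv2 a b xW)⁻¹) ^ 7) ^ 4 = 1 ∧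
      σ.ker = closure {(wv2 a b xW)⁻¹, (wv2 a b yW)⁻¹} ∧ σ.ker ≤ center E := by
  obtain ⟨h0, h1, h2, h3⟩ := (exact_iff2 a b).1 hex
  have hinj := cyc_inj σ a h0 ha1
  have S : Setting2 a b (σ.ker ⊓ center E) :=
    { central := inf_le_right
      disj := fun x hx hxA => hinj x hx (MonoidHom.mem_ker.1 hxA.1)
      exact := hex
      rel := hcen
      gen := hgen }
  obtain ⟨hxA, hyA, hx12, hy4, hfinQ, hfinZ, hq⟩ := mono_main2 S
  have hfinH : Finite (closure ({a} : Set E)) := by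
    rw [← zpowers_eq_closure]
    exact Nat.finite_of_card_ne_zero (by
      rw [Nat.card_zpowers]
      exact (orderOf_pos_iff.2 (isOfFinOrder_iff_pow_eq_one.2 ⟨7, by norm_num, h0⟩)).ne')
  have hH : Nat.card (closure ({a} : Set E)) ≤ 7 := by
    rw [← zpowers_eq_closure, Nat.card_zpowers]
    exact Nat.le_of_dvd (by norm_num) (orderOf_dvd_of_pow_eq_one h0)
  have hZle : closure {(wv2 a b xW)⁻¹, (wv2 a b yW)⁻¹} ≤ σ.ker ⊓ center E := by
    rw [closure_le]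
    intro g hg
    simp only [Set.mem_insert_iff, Set.mem_singleton_iff] at hg
    rcases hg with rfl | rfl
    · exact hxA
    · exact hyA
  obtain ⟨hfin, hker⟩ := count_main2 σ hs hG (closure {a}) hH _ (le_trans hZle inf_le_left) hq
  refine ⟨hfin, hx12, hy4, hker, ?_⟩
  rw [hker]
  exact le_trans hZle inf_le_right

end count

end Cfsg.Agent.Lib.H17.L34M
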