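import Cfsg.Agent.Lib.H17.L34M.Core2

set_option autoImplicit false

/-!
# Finite stem extensions of a group with the `L3(4)` data (helper17)
-/

namespace Cfsg.Agent.Lib.H17.L34M

open Subgroup
open Cfsg.Agent.Lib.H17.M22M (pow_card_eq_one exists_lift_pow conj_eq_pow closure_lift_eq_top)

/-- the data on the group `G`: two generators satisfying all the relators, and the order -/
structure Base2 {G : Type*} [Group G] (am bm : G) : Prop where
  rel : ∀ w ∈ Cert.exactL ++ (Cert.symL ++ Cert.cenL), wv2 am bm w = 1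
  gen : closure {am, bm} = ⊤
  card : Nat.card G = 20160
  a_ne : am ≠ 1
  b_ne : bm ≠ 1

variable {G : Type*} [Group G] {am bm : G}

theorem Base2.exact (B : Base2 am bm) : ∀ w ∈ Cert.exactL, wv2 am bm w = 1 :=
  fun w hw => B.rel w (List.mem_append_left _ hw)

theorem Base2.finite (B : Base2 am bm) : Finite G :=
  Nat.finite_of_card_ne_zero (by rw [B.card]; norm_num)

theorem orderOf_eq_of_prime2 {g : G} {p : ℕ} (hp : p.Prime) (h1 : g ^ p = 1) (h2 : g ≠ 1) :
    orderOf g = p := by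
  have := orderOf_dvd_of_pow_eq_one h1
  rcases (Nat.dvd_prime hp).1 this with h | h
  · exact absurd (orderOf_eq_one_iff.1 h) h2
  · exact h

theorem Base2.index_zpowers (B : Base2 am bm) {g : G} {p : ℕ} (hg : orderOf g = p) :
    (zpowers g).index * p = 20160 := by
  have := Subgroup.index_mul_card (zpowers g)
  rw [Nat.card_zpowers, hg, B.card] at this
  exact this

/-- the kernel of a finite stem extension has exponent dividing `576 = 2^6 * 3^2` -/
theorem Base2.ker_pow (B : Base2 am bm) {Γ : Type*} [Group Γ] [Finite Γ] (σ : Γ →* G)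
    (hσ : Cfsg.IsStemExtension σ) : ∀ z ∈ σ.ker, z ^ 576 = 1 := by
  intro z hz
  obtain ⟨e0, e1, -, -⟩ := (exact_iff2 am bm).1 B.exact
  have h1 : z ^ 20160 = 1 := by rw [← B.card]; exact pow_card_eq_one σ hσ hz
  set w := z ^ 576 with hw
  have hwk : w ∈ σ.ker := pow_mem hz _
  have hw35 : w ^ 35 = 1 := by rw [hw, ← pow_mul]; exact h1
  have i5 : (zpowers bm).index = 4032 := by
    have := B.index_zpowers (orderOf_eq_of_prime2 (by norm_num : Nat.Prime 5) e1 B.b_ne)
    omega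
  have i7 : (zpowers am).index = 2880 := by
    have := B.index_zpowers (orderOf_eq_of_prime2 (by norm_num : Nat.Prime 7) e0 B.a_ne)
    omega
  have h5 : w ^ 7 = 1 :=
    Cfsg.Agent.Lib.H28.StemTools.eq_one_of_cyclic σ hσ bm (pow_mem hwk 7) (n := 5)
      (by rw [← pow_mul]; exact hw35) (by rw [i5]; norm_num)
  have h7 : w ^ 5 = 1 :=
    Cfsg.Agent.Lib.H28.StemTools.eq_one_of_cyclic σ hσ am (pow_mem hwk 5) (n := 7)
      (by rw [← pow_mul]; exact hw35) (by rw [i7]; norm_num)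
  have d1 := orderOf_dvd_of_pow_eq_one h5
  have d2 := orderOf_dvd_of_pow_eq_one h7
  have d5 : orderOf w ∣ Nat.gcd 7 5 := Nat.dvd_gcd d1 d2
  have d6 : Nat.gcd 7 5 = 1 := by norm_num
  rw [d6] at d5
  exact orderOf_eq_one_iff.1 (Nat.dvd_one.1 d5)

/-- the kernel of a finite stem extension is generated by two elements `X`, `W` with `X ^ 12 = 1` and
`(W * X ^ 7) ^ 4 = 1` -/
theorem Base2.stem (B : Base2 am bm) {Γ : Type*} [Group Γ] [Finite Γ] (σ : Γ →* G)
    (hσ : Cfsg.IsStemExtension σ) :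
    ∃ X W : Γ, X ^ 12 = 1 ∧ (W * X ^ 7) ^ 4 = 1 ∧ σ.ker = closure {X, W} ∧ σ.ker ≤ center Γ := by
  have hN := B.ker_pow σ hσ
  obtain ⟨hs, hc, hd⟩ := hσ
  obtain ⟨e0, e1, e2, e3⟩ := (exact_iff2 am bm).1 B.exact
  obtain ⟨a, ha, ha7⟩ := exists_lift_pow σ hs hN (by norm_num : Nat.Coprime 7 576) e0
  obtain ⟨b, hb, hb5⟩ := exists_lift_pow σ hs hN (by norm_num : Nat.Coprime 5 576) e1
  have hwa : σ (wv2 a b waL) = wv2 am bm waL := by rw [map_wv2, ha, hb]
  have hwb : σ (wv2 a b wbL) = wv2 am bm wbL := by rw [map_wv2, ha, hb]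
  have r2 : wv2 a b waL * a * (wv2 a b waL)⁻¹ = a ^ 2 :=
    conj_eq_pow σ hc hN (by norm_num : Nat.Coprime 7 576) ha7
      (by rw [map_mul, map_mul, map_inv, map_pow, hwa, ha]; exact e2)
  have r3 : wv2 a b wbL * b * (wv2 a b wbL)⁻¹ = b ^ 4 :=
    conj_eq_pow σ hc hN (by norm_num : Nat.Coprime 5 576) hb5
      (by rw [map_mul, map_mul, map_inv, map_pow, hwb, hb]; exact e3)
  have hex := (exact_iff2 a b).2 ⟨ha7, hb5, r2, r3⟩
  have hcen : ∀ w ∈ Cert.symL ++ Cert.cenL, wv2 a b w ∈ σ.ker ⊓ center Γ := by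
    intro w hw
    have : wv2 a b w ∈ σ.ker := by
      rw [MonoidHom.mem_ker, map_wv2, ha, hb]
      exact B.rel w (List.mem_append_right _ hw)
    exact ⟨this, hc this⟩
  have hgen : closure {a, b} = ⊤ :=
    closure_lift_eq_top σ hc hd {a, b} (by
      rw [Set.image_insert_eq, Set.image_singleton, ha, hb]
      exact B.gen)
  obtain ⟨-, h12, h4, hker, hkc⟩ := core2 σ hs B.card a b (by rw [ha]; exact B.a_ne) hex hcen hgen
  exact ⟨_, _, h12, h4, hker, hkc⟩

end Cfsg.Agent.Lib.H17.L34M
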