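import Cfsg.Agent.Lib.H5.M21.Std
import Cfsg.Agent.Lib.H27.M24NF
import Cfsg.Agent.Lib.H28.M24OctadOrbits
import Cfsg.Agent.Lib.H17.L34M.Stem2

set_option autoImplicit false
set_option maxRecDepth 100000

/-!
# The `M21` data: two generators of `M21 = L3(4)` satisfying the relators (helper17)

`a = g₁ g₂` (order 7), `b = g₂` (order 5), where `g₁, g₂` are helper5's generators `aGens` of the
three-point stabilizer `A21` of `M24`.  All relators are checked on the 24 points by kernel evaluation.
-/

namespace Cfsg.Agent.Lib.H17.L34M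

open Cfsg Cfsg.Agent.Lib.H28 Cfsg.Agent.Lib.H27 Cfsg.Agent.Lib.H27.M24NF Cfsg.Agent.Lib.H5.M21

/-- the word of the first generator -/
def aw : List ℕ := [0, 3, 0, 3, 0, 3, 3, 3, 1, 3, 3, 0, 0]

/-- the word of the second generator -/
def bw : List ℕ := [3, 3, 1, 3, 3, 0, 0]

/-- expansion of a letter -/
def expL2 : ℕ → List ℕ
  | 0 => aw
  | 1 => invWord aw
  | 2 => bw
  | 3 => invWord bw
  | _ => []

/-- expansion of a word -/
def expW2 (w : List ℕ) : List ℕ := (w.map expL2).flatten

theorem wordPerm_expL2 (x : ℕ) :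
    wordPerm (expL2 x) = gl2 (wordPerm aw) (wordPerm bw) x := by
  unfold expL2 gl2
  split <;> simp only [wordPerm_invWord, wordPerm_nil]

theorem wordPerm_expW2 (w : List ℕ) :
    wordPerm (expW2 w) = wv2 (wordPerm aw) (wordPerm bw) w := by
  induction w with
  | nil => rfl
  | cons x u ih =>
    unfold expW2 wv2 at ih ⊢
    rw [List.map_cons, List.flatten_cons, wordPerm_append, ih, wordPerm_expL2, List.map_cons,
      List.prod_cons]

theorem rel_chk21 : ∀ w ∈ Cert.exactL ++ (Cert.symL ++ Cert.cenL), eqW (expW2 w) [] = true := by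
  decide +kernel

/-- the generators in `M21` -/
noncomputable def am21 : ↥A21 := ⟨wordPerm aw, wordPerm_mem_A21 (by decide +kernel)⟩
/-- the generators in `M21` -/
noncomputable def bm21 : ↥A21 := ⟨wordPerm bw, wordPerm_mem_A21 (by decide +kernel)⟩

theorem coe_wv21 (w : List ℕ) :
    ((wv2 am21 bm21 w : ↥A21) : Equiv.Perm GolayPt) = wordPerm (expW2 w) := by
  rw [wordPerm_expW2]
  exact map_wv2 (A21).subtype am21 bm21 w

theorem rel21 : ∀ w ∈ Cert.exactL ++ (Cert.symL ++ Cert.cenL), wv2 am21 bm21 w = 1 := by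
  intro w hw
  apply Subtype.ext
  rw [coe_wv21, wordPerm_eq_of_eqW (rel_chk21 w hw), wordPerm_nil]
  rfl

theorem ne_one_of_evalPt {w : List ℕ} (h : evalPt w 2 ≠ 2) : wordPerm w ≠ 1 := by
  intro h1
  apply h
  have := gIdx_wordPerm w (gPt 2)
  rw [h1, Equiv.Perm.one_apply, gIdx_gPt (by norm_num)] at this
  exact this.symm

theorem gen21 : Subgroup.closure {am21, bm21} = (⊤ : Subgroup ↥A21) := by
  rw [eq_top_iff]
  intro g _
  have ha : am21 ∈ Subgroup.closure {am21, bm21} := Subgroup.subset_closure (by simp)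
  have hb : bm21 ∈ Subgroup.closure {am21, bm21} := Subgroup.subset_closure (by simp)
  have h1 : wordsClosure aGens ≤ (Subgroup.closure {am21, bm21}).map (A21).subtype := by
    apply wordsClosure_le
    intro w hw
    simp only [aGens, List.mem_cons, List.not_mem_nil, or_false] at hw
    rcases hw with rfl | rfl
    · refine ⟨am21 * bm21⁻¹, mul_mem ha (inv_mem hb), ?_⟩
      change wordPerm aw * (wordPerm bw)⁻¹ = wordPerm [0, 3, 0, 3, 0, 3]
      have e : aw = [0, 3, 0, 3, 0, 3] ++ bw := rfl
      rw [e, wordPerm_append]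
      group
    · exact ⟨bm21, hb, rfl⟩
  have h2 : g.1 ∈ wordsClosure aGens := by rw [wordsClosure_aGens]; exact g.2
  obtain ⟨y, hy, hyg⟩ := h1 h2
  have : y = g := Subtype.ext hyg
  rw [← this]; exact hy

/-- the `M21` data -/
theorem base21 : Base2 am21 bm21 where
  rel := rel21
  gen := gen21
  card := card_A21
  a_ne := fun h => ne_one_of_evalPt (w := aw) (by decide +kernel) (congrArg Subtype.val h)
  b_ne := fun h => ne_one_of_evalPt (w := bw) (by decide +kernel) (congrArg Subtype.val h)

end Cfsg.Agent.Lib.H17.L34M
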