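import Cfsg.Agent.Lib.H17.L34M.Stem2
import Cfsg.Agent.Lib.H17.L34M.ModelHom2
import Cfsg.Agent.Lib.H8.L34Pieces

set_option autoImplicit false

/-!
# The Schur multiplier of a group with the `L3(4)` data is `3 × 4 × 4` (helper17)
-/

namespace Cfsg.Agent.Lib.H17.L34M

open Subgroup

/-- the multiplier -/
abbrev T344 : Type := Multiplicative (ZMod 3 × ZMod 4 × ZMod 4)

section hom

variable {E : Type*} [Group E] (X W : E)

theorem closure_344 (hX : X ^ 12 = 1) :
    closure {X ^ 4, X ^ 9, W * X ^ 7} = closure {X, W} := by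
  apply le_antisymm
  · rw [closure_le]
    have hx : X ∈ closure {X, W} := subset_closure (by simp)
    have hw : W ∈ closure {X, W} := subset_closure (by simp)
    intro g hg
    simp only [Set.mem_insert_iff, Set.mem_singleton_iff] at hg
    rcases hg with rfl | rfl | rfl
    · exact pow_mem hx 4
    · exact pow_mem hx 9
    · exact mul_mem hw (pow_mem hx 7)
  · rw [closure_le]
    have h4 : X ^ 4 ∈ closure {X ^ 4, X ^ 9, W * X ^ 7} := subset_closure (by simp)
    have h9 : X ^ 9 ∈ closure {X ^ 4, X ^ 9, W * X ^ 7} := subset_closure (by simp)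
    have hw : W * X ^ 7 ∈ closure {X ^ 4, X ^ 9, W * X ^ 7} := subset_closure (by simp)
    have hx : X ∈ closure {X ^ 4, X ^ 9, W * X ^ 7} := by
      have e : X ^ 4 * X ^ 9 = X := by
        rw [← pow_add, show 4 + 9 = 12 + 1 from rfl, pow_add, hX, one_mul, pow_one]
      have h := mul_mem h4 h9
      rw [e] at h
      exact h
    intro g hg
    simp only [Set.mem_insert_iff, Set.mem_singleton_iff] at hg
    rcases hg with rfl | rfl
    · exact hx
    · have e : (g * X ^ 7) * X ^ 5 = g := by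
        rw [mul_assoc, ← pow_add, show 7 + 5 = 12 from rfl, hX, mul_one]
      have h := mul_mem hw (pow_mem hx 5)
      rw [e] at h
      exact h

/-- the homomorphism from `3 × 4 × 4` onto a subgroup generated by commuting elements `X`, `W` with
`X ^ 12 = (W X ^ 7) ^ 4 = 1` -/
theorem exists_hom_T344 (hc : Commute X W) (hX : X ^ 12 = 1) (hY : (W * X ^ 7) ^ 4 = 1)
    (K : Subgroup E) (hK : K = closure {X, W}) :
    ∃ f : T344 →* ↥K, Function.Surjective f ∧
      ∀ t, ((f t : ↥K) : E) = X ^ (4 * (Multiplicative.toAdd t).1.val + 9 * (Multiplicative.toAdd t).2.1.val +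
        7 * (Multiplicative.toAdd t).2.2.val) * W ^ (Multiplicative.toAdd t).2.2.val := by
  have h0 : (X ^ 4) ^ 3 = 1 := by rw [← pow_mul]; exact hX
  have h1 : (X ^ 9) ^ 4 = 1 := by rw [← pow_mul, show 9 * 4 = 12 * 3 from rfl, pow_mul, hX, one_pow]
  have c01 : Commute (X ^ 4) (X ^ 9) := (Commute.refl X).pow_pow 4 9
  have cXW7 : Commute X (W * X ^ 7) := hc.mul_right ((Commute.refl X).pow_right 7)
  have c02 : Commute (X ^ 4) (W * X ^ 7) := cXW7.pow_left 4
  have c12 : Commute (X ^ 9) (W * X ^ 7) := cXW7.pow_left 9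
  obtain ⟨f, hf, hrange⟩ := Cfsg.Agent.Lib.H8.L34.exists_hom_344 (X ^ 4) (X ^ 9) (W * X ^ 7) h0 h1 hY
    c01 c02 c12
  rw [closure_344 X W hX, ← hK] at hrange
  have hmem : ∀ t, f t ∈ K := fun t => by rw [← hrange]; exact ⟨t, rfl⟩
  refine ⟨f.codRestrict K hmem, ?_, ?_⟩
  · rintro ⟨y, hy⟩
    rw [← hrange] at hy
    obtain ⟨t, rfl⟩ := hy
    exact ⟨t, rfl⟩
  · intro t
    change f t = _
    rw [hf t]
    set i := (Multiplicative.toAdd t).1.val
    set j := (Multiplicative.toAdd t).2.1.val
    set k := (Multiplicative.toAdd t).2.2.val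
    have hWX : Commute W (X ^ 7) := (hc.symm).pow_right 7
    rw [hWX.mul_pow, ← pow_mul, ← pow_mul, ← pow_mul]
    have hcc : Commute (W ^ k) (X ^ (7 * k)) := (hc.symm).pow_pow k (7 * k)
    rw [← mul_assoc, mul_assoc (X ^ (4 * i) * X ^ (9 * j)), hcc.eq, ← mul_assoc, ← pow_add, ← pow_add]

end hom

theorem card_T344 : Nat.card T344 = 48 := by
  rw [Nat.card_eq_fintype_card, Fintype.card_multiplicative, Fintype.card_prod, Fintype.card_prod,
    ZMod.card, ZMod.card]

theorem sep_T344 : ∀ t : ZMod 3 × ZMod 4 × ZMod 4,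
    (((4 * t.1.val + 9 * t.2.1.val + 7 * t.2.2.val : ℕ) : ZMod 12) + 5 * ((t.2.2.val : ℕ) : ZMod 12) = 0 ∧
      3 * ((t.2.2.val : ℕ) : ZMod 12) = 0) → t = 0 := by
  decide

variable {G : Type} [Group G] {am bm : G}

/-- the covering homomorphism -/
noncomputable def Base2.cover (B : Base2 am bm) : P2 →* G :=
  homP2 am bm B.exact (fun w hw i => by
    rw [B.rel w (List.mem_append_right _ hw), one_mul, mul_one])

theorem Base2.cover_wv (B : Base2 am bm) (w : List ℕ) : B.cover (wv2 qa qb w) = wv2 am bm w :=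
  homP2_wv _ _ _ _ w

theorem Base2.cover_surjective (B : Base2 am bm) : Function.Surjective B.cover := by
  rw [← MonoidHom.range_eq_top, eq_top_iff, ← B.gen, closure_le]
  intro g hg
  simp only [Set.mem_insert_iff, Set.mem_singleton_iff] at hg
  rcases hg with rfl | rfl
  · exact ⟨qa, homP2_qa _ _ _ _⟩
  · exact ⟨qb, homP2_qb _ _ _ _⟩

theorem Base2.main (B : Base2 am bm) : Cfsg.HasSchurMultiplier G T344 := by
  constructor
  · -- existence: the presented group
    have hs := B.cover_surjective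
    have hcen : ∀ w ∈ Cert.symL ++ Cert.cenL, wv2 qa qb w ∈ B.cover.ker ⊓ center P2 := by
      intro w hw
      have h1 : wv2 qa qb w ∈ B.cover.ker := by
        rw [MonoidHom.mem_ker, B.cover_wv]
        exact B.rel w (List.mem_append_right _ hw)
      exact ⟨h1, P2_central w hw⟩
    obtain ⟨hfin, h12, h4, hker, hkc⟩ := core2 B.cover hs B.card qa qb
      (by rw [Base2.cover, homP2_qa]; exact B.a_ne) P2_exact hcen P2_gen
    have hperf : commutator P2 = ⊤ := by
      obtain ⟨h1, h2⟩ := mem_commutator_of_exact2 qa qb P2_exact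
      rw [eq_top_iff, ← P2_gen, closure_le]
      intro g hg
      simp only [Set.mem_insert_iff, Set.mem_singleton_iff] at hg
      rcases hg with rfl | rfl
      · exact h1
      · exact h2
    refine ⟨P2, inferInstance, hfin, B.cover, ⟨hs, hkc, by rw [hperf]; exact le_top⟩, ?_⟩
    have hXc : (wv2 qa qb xW)⁻¹ ∈ center P2 := inv_mem (P2_central xW (by decide))
    have hcomm : Commute ((wv2 qa qb xW)⁻¹ : P2) (wv2 qa qb yW)⁻¹ :=
      ((mem_center_iff.1 hXc) _).symm
    obtain ⟨f, hf, hform⟩ := exists_hom_T344 _ _ hcomm h12 h4 B.cover.ker hker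
    have hinj : Function.Injective f := by
      rw [injective_iff_map_eq_one]
      intro t ht
      have h1 : ((f t : ↥B.cover.ker) : P2) = 1 := by rw [ht]; rfl
      rw [hform t] at h1
      have hsep := models_sep _ _ h1
      have := sep_T344 (Multiplicative.toAdd t) (by
        refine ⟨?_, hsep.2⟩
        have := hsep.1
        push_cast at this ⊢
        exact this)
      exact this
    exact ⟨(MulEquiv.ofBijective f ⟨hinj, hf⟩).symm⟩
  · -- universality
    intro Γ _ _ σ hσ
    obtain ⟨X, W, h12, h4, hker, hkc⟩ := B.stem σ hσ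
    have hXk : X ∈ σ.ker := by rw [hker]; exact subset_closure (by simp)
    have hcomm : Commute X W := ((mem_center_iff.1 (hkc hXk)) W).symm
    obtain ⟨f, hf, -⟩ := exists_hom_T344 X W hcomm h12 h4 σ.ker hker
    exact ⟨f, hf⟩

end Cfsg.Agent.Lib.H17.L34M
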